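import Groth.Agent.KHeartLib.Classes
import Mathlib

/-!
# Classes of objects with finite resolutions

For classes `P₀ ≤ P₁` as in the resolution theorem for `K₀`, `Dim n A` says that in every resolution of `A`
by objects of `P₀` the `n`-th kernel is in `P₀`, and `chi n A` is the alternating sum of one such resolution.
-/

set_option autoImplicit false

universe v u

open CategoryTheory CategoryTheory.Limits Groth.Agent

namespace K0ResLib

variable {C : Type u} [Category.{v} C] [Abelian C] (P₀ P₁ : ObjectProperty C)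

/-- A cover of an object: an object of `P₀` with an epimorphism onto it. -/
structure Cover (A : C) where
  L : C
  π : L ⟶ A
  hL : P₀ L
  [epi : Epi π]

attribute [instance] Cover.epi

/-- `A` is in `P₁` and every `n`-th syzygy of it is in `P₀`. -/
def Dim : ℕ → C → Prop
  | 0, A => P₀ A
  | n + 1, A => P₁ A ∧ ∀ c : Cover P₀ A, Dim n (kernel c.π)

open Classical in
/-- The alternating sum of a chosen resolution, truncated at the `n`-th kernel. -/
noncomputable def chi : ℕ → C → KZero.K0sub P₀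
  | 0, A => KZero.clSub P₀ A
  | n + 1, A => if h : Nonempty (Cover P₀ A) then
      KZero.clSub P₀ h.some.L - chi n (kernel h.some.π) else 0

/-- The hypotheses of the resolution theorem used on single objects. -/
structure Hyp : Prop where
  hle : ∀ X, P₀ X → P₁ X
  hext₀ : ∀ S : ShortComplex C, S.ShortExact → P₀ S.X₁ → P₀ S.X₃ → P₀ S.X₂
  hext₁ : ∀ S : ShortComplex C, S.ShortExact → P₁ S.X₁ → P₁ S.X₃ → P₁ S.X₂
  h1₀ : ∀ S : ShortComplex C, S.ShortExact → P₀ S.X₂ → P₀ S.X₃ → P₀ S.X₁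
  h1₁ : ∀ S : ShortComplex C, S.ShortExact → P₁ S.X₂ → P₁ S.X₃ → P₁ S.X₁
  h2 : ∀ (A B D : C) (u : A ⟶ B) (v : D ⟶ B), Epi u → P₁ A → P₁ B → P₁ D →
      ∃ (L : C) (u' : L ⟶ D) (v' : L ⟶ A), P₀ L ∧ Epi u' ∧ u' ≫ v = v' ≫ u

/-- The short exact sequence of an epimorphism. -/
noncomputable def kerSeq {L A : C} (π : L ⟶ A) : ShortComplex C :=
  ShortComplex.mk (kernel.ι π) π (kernel.condition π)

theorem kerSeq_shortExact {L A : C} (π : L ⟶ A) [Epi π] : (kerSeq π).ShortExact :=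
  { exact := ShortComplex.exact_of_f_is_kernel _ (kernelIsKernel π)
    mono_f := by dsimp [kerSeq]; infer_instance
    epi_g := by dsimp [kerSeq]; infer_instance }

/-- The split sequence of a biproduct. -/
noncomputable def biprodSeq (X Y : C) : ShortComplex C :=
  ShortComplex.mk (biprod.inl : X ⟶ X ⊞ Y) biprod.snd biprod.inl_snd

theorem biprodSeq_shortExact (X Y : C) : (biprodSeq X Y).ShortExact :=
  ShortComplex.Splitting.shortExact
    { r := biprod.fst, s := biprod.inr, f_r := by simp [biprodSeq], s_g := by simp [biprodSeq],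
      id := by dsimp [biprodSeq]; exact biprod.total }

variable {P₀ P₁} [P₀.IsClosedUnderIsomorphisms] [P₁.IsClosedUnderIsomorphisms] (H : Hyp P₀ P₁)

include H

theorem ker_mem₁ {L A : C} (π : L ⟶ A) [Epi π] (hL : P₁ L) (hA : P₁ A) : P₁ (kernel π) :=
  H.h1₁ _ (kerSeq_shortExact π) hL hA

theorem ker_mem₀ {L A : C} (π : L ⟶ A) [Epi π] (hL : P₀ L) (hA : P₀ A) : P₀ (kernel π) :=
  H.h1₀ _ (kerSeq_shortExact π) hL hA

theorem biprod_mem₀ {X Y : C} (hX : P₀ X) (hY : P₀ Y) : P₀ (X ⊞ Y) := H.hext₀ _ (biprodSeq_shortExact X Y) hX hY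

theorem clSub_biprod {X Y : C} (hX : P₀ X) (hY : P₀ Y) :
    KZero.clSub P₀ (X ⊞ Y) = KZero.clSub P₀ X + KZero.clSub P₀ Y :=
  KHeartLib.clSub_add P₀ _ (biprodSeq_shortExact X Y) hX (biprod_mem₀ H hX hY) hY

theorem exists_cover {A : C} (hA : P₁ A) : Nonempty (Cover P₀ A) := by
  obtain ⟨L, u', v', hL, hu', -⟩ := H.h2 A A A (𝟙 A) (𝟙 A) inferInstance hA hA hA
  exact ⟨{ L := L, π := u', hL := hL, epi := hu' }⟩

theorem dim_mem₁ {n : ℕ} {A : C} (hA : Dim P₀ P₁ n A) : P₁ A := by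
  cases n with
  | zero => exact H.hle _ hA
  | succ n => exact hA.1

theorem dim_succ_of_dim : ∀ {n : ℕ} {A : C}, Dim P₀ P₁ n A → Dim P₀ P₁ (n + 1) A
  | 0, _, hA => ⟨H.hle _ hA, fun c => ker_mem₀ H c.π c.hL hA⟩
  | n + 1, _, hA => ⟨hA.1, fun c => dim_succ_of_dim (hA.2 c)⟩

theorem dim_mono {m n : ℕ} (h : m ≤ n) {A : C} (hA : Dim P₀ P₁ m A) : Dim P₀ P₁ n A := by
  induction h with
  | refl => exact hA
  | step _ ih => exact dim_succ_of_dim H ih

/-- A kernel of the composite of two epimorphisms is an extension. -/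
theorem kernel_comp_shortExact {X Y Z : C} (f : X ⟶ Y) (g : Y ⟶ Z) [Epi f] :
    ∃ (i : kernel f ⟶ kernel (f ≫ g)) (p : kernel (f ≫ g) ⟶ kernel g) (w : i ≫ p = 0),
      (ShortComplex.mk i p w).ShortExact := by
  let i : kernel f ⟶ kernel (f ≫ g) := kernel.lift _ (kernel.ι f) (by rw [kernel.condition_assoc, zero_comp])
  let p : kernel (f ≫ g) ⟶ kernel g := kernel.lift _ (kernel.ι (f ≫ g) ≫ f) (by rw [Category.assoc, kernel.condition])
  have w : i ≫ p = 0 := by
    rw [← cancel_mono (kernel.ι g)]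
    simp [i, p]
  refine ⟨i, p, w, { exact := ?_, mono_f := ?_, epi_g := ?_ }⟩
  · rw [ShortComplex.exact_iff_exact_up_to_refinements]
    intro A x hx
    refine ⟨A, 𝟙 A, inferInstance, kernel.lift f (x ≫ kernel.ι (f ≫ g)) ?_, ?_⟩
    · simpa [p] using hx =≫ kernel.ι g
    · rw [← cancel_mono (kernel.ι (f ≫ g))]
      simp [i]
  · exact mono_of_mono_fac (show i ≫ kernel.ι (f ≫ g) = kernel.ι f by simp [i])
  · rw [epi_iff_surjective_up_to_refinements]
    intro A y
    obtain ⟨A', π, hπ, x, hx⟩ := surjective_up_to_refinements_of_epi f (y ≫ kernel.ι g)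
    refine ⟨A', π, hπ, kernel.lift (f ≫ g) x (by rw [← Category.assoc, ← hx]; simp), ?_⟩
    rw [← cancel_mono (kernel.ι g)]
    simp [p, hx]

/-- The alternating sum may be computed with any cover, given its invariance one degree below. -/
theorem chi_succ_eq {n : ℕ}
    (X : ∀ S : ShortComplex C, S.ShortExact → P₀ S.X₁ → Dim P₀ P₁ n S.X₂ → Dim P₀ P₁ n S.X₃ →
      chi P₀ n S.X₂ = KZero.clSub P₀ S.X₁ + chi P₀ n S.X₃)
    {A : C} (hA : Dim P₀ P₁ (n + 1) A) (c : Cover P₀ A) :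
    chi P₀ (n + 1) A = KZero.clSub P₀ c.L - chi P₀ n (kernel c.π) := by
  classical
  have hne : Nonempty (Cover P₀ A) := ⟨c⟩
  rw [chi, dif_pos hne]
  set d := hne.some with hd
  let e₀ : kernel (pullback.fst c.π d.π) ≅ kernel d.π :=
    { hom := kernel.map (pullback.fst c.π d.π) d.π (pullback.snd c.π d.π) c.π pullback.condition
      inv := kernel.lift _ (pullback.lift 0 (kernel.ι d.π) (by simp)) (pullback.lift_fst _ _ _)
      hom_inv_id := by
        rw [← cancel_mono (kernel.ι _)]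
        apply pullback.hom_ext <;> simp [kernel.condition, pullback.lift_fst, pullback.lift_snd]
      inv_hom_id := by
        rw [← cancel_mono (kernel.ι _)]
        simp [pullback.lift_snd] }
  have hQ : P₁ (pullback c.π d.π) :=
    have : Epi (pullback.fst c.π d.π) := inferInstance
    H.hext₁ _ (kerSeq_shortExact (pullback.fst c.π d.π))
      (P₁.prop_of_iso (e₀.symm) (ker_mem₁ H d.π (H.hle _ d.hL) hA.1)) (H.hle _ c.hL)
  obtain ⟨e⟩ := exists_cover H hQ
  have key : ∀ (c' : Cover P₀ A) (f : e.L ⟶ c'.L) [Epi f],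
      KZero.clSub P₀ e.L - chi P₀ n (kernel (f ≫ c'.π)) = KZero.clSub P₀ c'.L - chi P₀ n (kernel c'.π) := by
    intro c' f _
    obtain ⟨i, p, w, hS⟩ := kernel_comp_shortExact H f c'.π
    have := X _ hS (ker_mem₀ H f e.hL c'.hL) (hA.2 ⟨e.L, f ≫ c'.π, e.hL⟩) (hA.2 c')
    dsimp only at this
    have h := KHeartLib.clSub_add P₀ _ (kerSeq_shortExact f) (ker_mem₀ H f e.hL c'.hL) e.hL c'.hL
    dsimp [kerSeq] at h
    rw [this, h]
    abel
  rw [← key c (e.π ≫ pullback.fst c.π d.π), ← key d (e.π ≫ pullback.snd c.π d.π)]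
  simp only [Category.assoc, pullback.condition]

/-- Invariance of the alternating sum under an extension by an object of `P₀`. -/
theorem chi_ext : ∀ {n : ℕ} (S : ShortComplex C), S.ShortExact → P₀ S.X₁ → Dim P₀ P₁ n S.X₂ →
    Dim P₀ P₁ n S.X₃ → chi P₀ n S.X₂ = KZero.clSub P₀ S.X₁ + chi P₀ n S.X₃
  | 0, S, hS, h₁, h₂, h₃ => KHeartLib.clSub_add P₀ S hS h₁ h₂ h₃
  | n + 1, S, hS, h₁, h₂, h₃ => by
    have := hS.mono_f
    have := hS.epi_g
    obtain ⟨c₁⟩ := exists_cover H h₃.1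
    obtain ⟨L, u', v', hL, hu', e⟩ := H.h2 S.X₂ S.X₃ c₁.L S.g c₁.π inferInstance h₂.1 h₃.1 (H.hle _ c₁.hL)
    let q : S.X₁ ⊞ L ⟶ S.X₂ := biprod.desc S.f v'
    have hq : Epi q := by
      rw [epi_iff_surjective_up_to_refinements]
      intro A y
      obtain ⟨A₁, π₁, hπ₁, x, hx⟩ := surjective_up_to_refinements_of_epi (u' ≫ c₁.π) (y ≫ S.g)
      obtain ⟨A₂, π₂, hπ₂, z, hz⟩ := hS.exact.exact_up_to_refinements (π₁ ≫ y - x ≫ v') (by
        rw [Preadditive.sub_comp, Category.assoc, Category.assoc, hx, ← e, sub_self])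
      refine ⟨A₂, π₂ ≫ π₁, epi_comp _ _, biprod.lift z (π₂ ≫ x), ?_⟩
      rw [Preadditive.comp_sub, sub_eq_iff_eq_add] at hz
      simp [q, hz]
    let c₂ : Cover P₀ S.X₂ := ⟨S.X₁ ⊞ L, q, biprod_mem₀ H h₁ hL⟩
    let c₃ : Cover P₀ S.X₃ := { L := L, π := u' ≫ c₁.π, hL := hL }
    let φ : kernel c₂.π ⟶ kernel c₃.π := kernel.lift _ (kernel.ι q ≫ biprod.snd) (by
      have : (biprod.snd : S.X₁ ⊞ L ⟶ L) ≫ u' ≫ c₁.π = q ≫ S.g := by
        apply biprod.hom_ext' <;> simp [q, e]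
      dsimp [c₃]
      rw [Category.assoc, this, kernel.condition_assoc, zero_comp])
    have : IsIso φ := by
      have : Mono φ := by
        refine Preadditive.mono_of_cancel_zero _ fun {A} x hx => ?_
        have h2 : x ≫ kernel.ι q ≫ biprod.snd = 0 := by simpa [φ] using hx =≫ kernel.ι c₃.π
        have h4 : x ≫ kernel.ι q = (x ≫ kernel.ι q ≫ biprod.fst) ≫ biprod.inl := by
          apply biprod.hom_ext <;> simp [h2]
        have h3 : x ≫ kernel.ι q ≫ biprod.fst = 0 := by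
          rw [← cancel_mono S.f, zero_comp]
          have := h4 =≫ q
          rw [Category.assoc, kernel.condition, comp_zero] at this
          simpa [q] using this.symm
        rw [← cancel_mono (kernel.ι q), zero_comp]
        apply biprod.hom_ext <;> simp [h2, h3]
      have : Epi φ := by
        rw [epi_iff_surjective_up_to_refinements]
        intro A y
        obtain ⟨A₁, π₁, hπ₁, z, hz⟩ := hS.exact.exact_up_to_refinements (y ≫ kernel.ι c₃.π ≫ v') (by
          rw [Category.assoc, Category.assoc, ← e]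
          simpa [c₃] using y ≫= kernel.condition c₃.π)
        refine ⟨A₁, π₁, hπ₁, kernel.lift q (biprod.lift (-z) (π₁ ≫ y ≫ kernel.ι c₃.π)) (by simp [q, hz]), ?_⟩
        rw [← cancel_mono (kernel.ι c₃.π)]
        simp [φ, c₂]
        exact (biprod.lift_snd _ _).symm
      exact isIso_of_mono_of_epi φ
    obtain ⟨Z, hZ, hPZ⟩ : ∃ Z : C, IsZero Z ∧ P₀ Z :=
      ⟨kernel (𝟙 L), (isZero_kernel_of_mono (𝟙 L)), ker_mem₀ H (𝟙 L) hL hL⟩
    have hiso : chi P₀ n (kernel c₂.π) = chi P₀ n (kernel c₃.π) := by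
      have hse : (ShortComplex.mk (0 : Z ⟶ kernel c₂.π) φ zero_comp).ShortExact :=
        { exact := (ShortComplex.exact_iff_mono _ rfl).2 (by dsimp; infer_instance)
          mono_f := ⟨fun _ _ _ => hZ.eq_of_tgt _ _⟩
          epi_g := by dsimp; infer_instance }
      have := chi_ext (n := n) _ hse hPZ (h₂.2 c₂) (h₃.2 c₃)
      rwa [KHeartLib.clSub_eq_zero P₀ hPZ hZ, zero_add] at this
    rw [chi_succ_eq H (fun T => chi_ext (n := n) T) h₂ c₂, chi_succ_eq H (fun T => chi_ext (n := n) T) h₃ c₃, hiso]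
    dsimp [c₂, c₃]
    rw [clSub_biprod H h₁ hL]
    abel

theorem chi_eq {n : ℕ} {A : C} (hA : Dim P₀ P₁ (n + 1) A) (c : Cover P₀ A) :
    chi P₀ (n + 1) A = KZero.clSub P₀ c.L - chi P₀ n (kernel c.π) :=
  chi_succ_eq H (fun T => chi_ext H (n := n) T) hA c

theorem chi_succ_of_dim : ∀ {n : ℕ} {A : C}, Dim P₀ P₁ n A → chi P₀ (n + 1) A = chi P₀ n A
  | 0, A, hA => by
    obtain ⟨c⟩ := exists_cover H (dim_mem₁ H hA)
    rw [chi_eq H (dim_succ_of_dim H hA) c]
    change KZero.clSub P₀ c.L - KZero.clSub P₀ (kernel c.π) = KZero.clSub P₀ A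
    have h := KHeartLib.clSub_add P₀ _ (kerSeq_shortExact c.π) (ker_mem₀ H c.π c.hL hA) c.hL hA
    dsimp [kerSeq] at h
    rw [h]
    abel
  | n + 1, A, hA => by
    obtain ⟨c⟩ := exists_cover H (dim_mem₁ H hA)
    rw [chi_eq H (dim_succ_of_dim H hA) c, chi_eq H hA c, chi_succ_of_dim (hA.2 c)]

theorem chi_mono {m n : ℕ} (h : m ≤ n) {A : C} (hA : Dim P₀ P₁ m A) : chi P₀ n A = chi P₀ m A := by
  induction h with
  | refl => rfl
  | step h ih => rw [chi_succ_of_dim H (dim_mono H h hA), ih]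

/-- Additivity of the alternating sum. -/
theorem chi_add : ∀ {n : ℕ} (S : ShortComplex C), S.ShortExact → Dim P₀ P₁ n S.X₁ → Dim P₀ P₁ n S.X₂ →
    Dim P₀ P₁ n S.X₃ → chi P₀ n S.X₂ = chi P₀ n S.X₁ + chi P₀ n S.X₃
  | 0, S, hS, h₁, h₂, h₃ => KHeartLib.clSub_add P₀ S hS h₁ h₂ h₃
  | n + 1, S, hS, h₁, h₂, h₃ => by
    have := hS.mono_f
    have := hS.epi_g
    obtain ⟨c₁⟩ := exists_cover H h₁.1
    obtain ⟨d⟩ := exists_cover H h₃.1
    obtain ⟨L, u', v', hL, hu', e⟩ := H.h2 S.X₂ S.X₃ d.L S.g d.π inferInstance h₂.1 h₃.1 (H.hle _ d.hL)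
    let q : c₁.L ⊞ L ⟶ S.X₂ := biprod.desc (c₁.π ≫ S.f) v'
    have hsnd : (biprod.snd : c₁.L ⊞ L ⟶ L) ≫ u' ≫ d.π = q ≫ S.g := by
      apply biprod.hom_ext' <;> simp [q, e]
    have hq : Epi q := by
      rw [epi_iff_surjective_up_to_refinements]
      intro A y
      obtain ⟨A₁, π₁, hπ₁, x, hx⟩ := surjective_up_to_refinements_of_epi (u' ≫ d.π) (y ≫ S.g)
      obtain ⟨A₂, π₂, hπ₂, z, hz⟩ := hS.exact.exact_up_to_refinements (π₁ ≫ y - x ≫ v') (by
        rw [Preadditive.sub_comp, Category.assoc, Category.assoc, hx, ← e, sub_self])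
      obtain ⟨A₃, π₃, hπ₃, z', hz'⟩ := surjective_up_to_refinements_of_epi c₁.π z
      refine ⟨A₃, π₃ ≫ π₂ ≫ π₁, epi_comp _ _, biprod.lift z' (π₃ ≫ π₂ ≫ x), ?_⟩
      rw [Preadditive.comp_sub, sub_eq_iff_eq_add] at hz
      simp [q, hz, reassoc_of% hz']
    let c₂ : Cover P₀ S.X₂ := ⟨c₁.L ⊞ L, q, biprod_mem₀ H c₁.hL hL⟩
    let c₃ : Cover P₀ S.X₃ := { L := L, π := u' ≫ d.π, hL := hL }
    let i : kernel c₁.π ⟶ kernel c₂.π := kernel.lift _ (kernel.ι c₁.π ≫ biprod.inl) (by simp [c₂, q])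
    let p : kernel c₂.π ⟶ kernel c₃.π := kernel.lift _ (kernel.ι q ≫ biprod.snd) (by
      dsimp [c₃]
      rw [Category.assoc, hsnd, kernel.condition_assoc, zero_comp])
    have w : i ≫ p = 0 := by
      rw [← cancel_mono (kernel.ι c₃.π)]
      simp [i, p, c₂]
    have hK : (ShortComplex.mk i p w).ShortExact := by
      refine { exact := ?_, mono_f := ?_, epi_g := ?_ }
      · rw [ShortComplex.exact_iff_exact_up_to_refinements]
        intro A x hx
        have h2 : x ≫ kernel.ι q ≫ biprod.snd = 0 := by simpa [p] using hx =≫ kernel.ι c₃.π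
        have h4 : x ≫ kernel.ι q = (x ≫ kernel.ι q ≫ biprod.fst) ≫ biprod.inl := by
          apply biprod.hom_ext <;> simp [h2]
        refine ⟨A, 𝟙 A, inferInstance, kernel.lift c₁.π (x ≫ kernel.ι q ≫ biprod.fst) ?_, ?_⟩
        · rw [← cancel_mono S.f, zero_comp]
          have := h4 =≫ q
          rw [Category.assoc, kernel.condition, comp_zero] at this
          simpa [q] using this.symm
        · rw [← cancel_mono (kernel.ι c₂.π)]
          simpa [i, c₂] using h4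
      · exact mono_of_mono_fac (show i ≫ kernel.ι c₂.π = kernel.ι c₁.π ≫ biprod.inl by simp [i])
      · rw [epi_iff_surjective_up_to_refinements]
        intro A y
        obtain ⟨A₁, π₁, hπ₁, z, hz⟩ := hS.exact.exact_up_to_refinements (y ≫ kernel.ι c₃.π ≫ v') (by
          rw [Category.assoc, Category.assoc, ← e]
          simpa [c₃] using y ≫= kernel.condition c₃.π)
        obtain ⟨A₂, π₂, hπ₂, z', hz'⟩ := surjective_up_to_refinements_of_epi c₁.π z
        refine ⟨A₂, π₂ ≫ π₁, epi_comp _ _,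
          kernel.lift q (biprod.lift (-z') (π₂ ≫ π₁ ≫ y ≫ kernel.ι c₃.π)) (by simp [q, hz, ← reassoc_of% hz']), ?_⟩
        rw [← cancel_mono (kernel.ι c₃.π)]
        simp [p, c₂]
        exact (biprod.lift_snd _ _).symm
    rw [chi_eq H h₁ c₁, chi_eq H h₂ c₂, chi_eq H h₃ c₃,
      chi_add (n := n) _ hK (h₁.2 c₁) (h₂.2 c₂) (h₃.2 c₃)]
    dsimp [c₂, c₃]
    rw [clSub_biprod H c₁.hL hL]
    abel

end K0ResLib
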